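import Groth.Agent.Lib.Helper73.DimFormula.Slice.SliceCore
import Groth.Agent.Lib.Helper73.DimFormula.CMFlat.CMLocusFP
import Groth.Prelude.Def_Mor2

/-!
# Slicing a Cohen–Macaulay morphism down to a quasi-finite flat one (helper73)

* `slice_cohenMacaulay_to_quasiFinite` (EGA IV 15.1-type slicing; statement S1349).
-/

set_option autoImplicit false
universe u
open FlatMor

namespace Groth.Agent.Lib.Helper73

open AlgebraicGeometry CategoryTheory Limits in
theorem slice_cohenMacaulay_to_quasiFinite {X S : Scheme.{u}} (f : X ⟶ S) [LocallyOfFinitePresentation f] (x : X)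
    (hcm : MoreMor.IsCMAt f x) (hcl : IsClosed ({f.asFiber x} : Set ↑(f.fiber (f x)))) :
    ∃ (V : X.Opens) (Z : Scheme.{u}) (i : Z ⟶ (V : Scheme.{u})), Mor2.IsRegularClosedImmersion i ∧ x ∈ Set.range ⇑(i ≫ V.ι) ∧
      Flat (i ≫ V.ι ≫ f) ∧ LocallyOfFinitePresentation (i ≫ V.ι ≫ f) ∧ LocallyQuasiFinite (i ≫ V.ι ≫ f) ∧
      ∀ z : Z, f (V.ι (i z)) = f x → V.ι (i z) = x := by
  obtain ⟨d, hd⟩ := exists_fibreDimAt_eq_natCast f x
  have hr := resTrdegNat_eq_zero_of_isClosed_asFiber f x hcl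
  obtain ⟨U, g, hxU, -, hg, hlqf, hvan⟩ :=
    exists_locallyQuasiFinite_toAffineSpace_of_resTrdegNat_eq_zero f x d hd.le hr ⊤ trivial
  have hfl := flat_stalkMap_toAffineSpace_of_isCMAt_fp f x hcm d hd U hxU g hg
  obtain ⟨xU, hxUeq⟩ : ∃ w : (U : Scheme.{u}), w = ⟨x, hxU⟩ := ⟨_, rfl⟩
  have hxUι : U.ι xU = x := by rw [hxUeq]; rfl
  rw [← hxUeq] at hvan hfl
  set π := (𝔸(ULift.{u} (Fin d); S) ↘ S) with hπ
  haveI : LocallyOfFinitePresentation (g ≫ π) := by rw [hg]; infer_instance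
  haveI hglfp : LocallyOfFinitePresentation g := Groth.Agent.Lib.Helper54.CPF.lfp_of_comp g π
  have hopen := Groth.Agent.Lib.Helper55.FL.isOpen_stalkMap_flat g
  -- isolation of `x` in its fibre under `g`
  obtain ⟨O, hO, hOx⟩ := isDiscrete_iff_forall_mem_exists_isOpen.mp
    (g.isDiscrete_preimage_singleton (g xU)) xU rfl
  have hxO : xU ∈ O := by
    have : xU ∈ O ∩ g ⁻¹' {g xU} := by rw [hOx]; rfl
    exact this.1
  let G : (U : Scheme.{u}).Opens := ⟨_, hopen⟩ ⊓ ⟨O, hO⟩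
  have hxG : xU ∈ G := ⟨hfl, hxO⟩
  obtain ⟨W, hW, hfxW, -⟩ :=
    exists_isAffineOpen_mem_and_subset (X := S) (x := f x) (U := ⊤) trivial
  obtain ⟨V, hV, hxV, hVle⟩ :=
    exists_isAffineOpen_mem_and_subset (X := X) (x := x) (U := f ⁻¹ᵁ W ⊓ U.ι ''ᵁ G)
      ⟨hfxW, xU, hxG, hxUι⟩
  have hVW : V ≤ f ⁻¹ᵁ W := hVle.trans inf_le_left
  have hVG : V ≤ U.ι ''ᵁ G := hVle.trans inf_le_right
  have hVU : V ≤ U := by
    intro v hv
    obtain ⟨u, -, rfl⟩ := hVG hv
    exact u.2
  have hι : ∀ w : (V : Scheme.{u}), U.ι (X.homOfLE hVU w) = V.ι w := by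
    intro w
    rw [← Scheme.Hom.comp_apply, Scheme.homOfLE_ι]
  have hwG : ∀ w : (V : Scheme.{u}), X.homOfLE hVU w ∈ G := by
    intro w
    obtain ⟨u, hu, hu'⟩ := hVG w.2
    have : X.homOfLE hVU w = u := by
      apply U.ι.isOpenEmbedding.injective
      rw [hι]
      exact hu'.symm
    rw [this]
    exact hu
  obtain ⟨xV, hxVι⟩ : ∃ w : (V : Scheme.{u}), V.ι w = x := ⟨⟨x, hxV⟩, rfl⟩
  have hx' : X.homOfLE hVU xV = xU := by
    apply U.ι.isOpenEmbedding.injective
    rw [hι, hxVι, hxUι]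
  set g' := X.homOfLE hVU ≫ g with hg'def
  have hg' : g' ≫ π = V.ι ≫ f := by
    rw [hg'def, Category.assoc, hg, ← Category.assoc, Scheme.homOfLE_ι]
  haveI hg'fl : Flat g' := by
    rw [Flat.iff_flat_stalkMap]
    intro w
    rw [hg'def, Scheme.Hom.stalkMap_comp]
    have h1 : (g.stalkMap (X.homOfLE hVU w)).hom.Flat := (hwG w).1
    have h2 : ((X.homOfLE hVU).stalkMap w).hom.Flat :=
      RingHom.Flat.of_bijective (ConcreteCategory.bijective_of_isIso ((X.homOfLE hVU).stalkMap w))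
    exact RingHom.Flat.comp h1 h2
  haveI hg'lqf : LocallyQuasiFinite g' := by rw [hg'def]; infer_instance
  haveI hg'lfp : LocallyOfFinitePresentation g' := by rw [hg'def]; infer_instance
  haveI : IsAffine (V : Scheme.{u}) := hV
  have hvan' : ∀ i, xV ∉ (V : Scheme.{u}).basicOpen (g'.appTop (AffineSpace.coord S i)) := by
    intro i
    rw [hg'def, Scheme.Hom.comp_appTop, CommRingCat.comp_apply, ← Scheme.preimage_basicOpen_top]
    change ¬ (X.homOfLE hVU xV ∈ (U : Scheme.{u}).basicOpen (g.appTop (AffineSpace.coord S i)))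
    rw [hx']
    exact hvan i
  have hxZL : xV ∈ (V : Scheme.{u}).zeroLocus (U := ⊤)
      (Ideal.span (Set.range fun i => g'.appTop (AffineSpace.coord S i)) : Set _) := by
    rw [Scheme.zeroLocus_span, Scheme.mem_zeroLocus_iff]
    rintro _ ⟨i, rfl⟩
    exact hvan' i
  let I := coordIdeal g'
  have hxI : xV ∈ Set.range I.subschemeι := by
    rw [Scheme.IdealSheafData.range_subschemeι, SetLike.mem_coe,
      Scheme.IdealSheafData.mem_support_iff_of_mem (U := ⟨⊤, isAffineOpen_top _⟩) trivial,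
      coordIdeal_ideal_top]
    exact hxZL
  obtain ⟨z₀, hz₀⟩ := hxI
  have sq := isPullback_coordIdeal g'
  have hcomp : I.subschemeι ≫ g' ≫ π = I.subschemeι ≫ V.ι ≫ f := by rw [hg']
  rw [hcomp] at sq
  -- the list of coordinates
  let l : List (ULift.{u} (Fin d)) := (List.finRange d).map ULift.up
  have hl : l.Nodup := (List.nodup_finRange d).map ULift.up_injective
  have hlmem : ∀ i, i ∈ l := by
    intro i
    exact List.mem_map.mpr ⟨i.down, List.mem_finRange _, rfl⟩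
  let rs : List Γ((V : Scheme.{u}), ⊤) := l.map (fun i => g'.appTop (AffineSpace.coord S i))
  have hspan : Ideal.ofList rs =
      Ideal.span (Set.range fun i => g'.appTop (AffineSpace.coord S i)) := by
    unfold Ideal.ofList
    congr 1
    ext r
    simp only [rs, List.mem_map, Set.mem_setOf_eq, Set.mem_range]
    constructor
    · rintro ⟨i, -, rfl⟩; exact ⟨i, rfl⟩
    · rintro ⟨i, rfl⟩; exact ⟨i, hlmem i, rfl⟩
  refine ⟨V, I.subscheme, I.subschemeι, ⟨inferInstance, fun z => ⟨⊤, isAffineOpen_top _, trivial,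
    rs, ⟨?_, ?_⟩, ?_⟩⟩, ?_, ?_, ?_, ?_, ?_⟩
  · exact isWeaklyRegular_appTop_coord f hV hW hVW _ g' hg' l hl
  · rw [smul_eq_mul, Ideal.mul_top, hspan]
    intro htop
    have h1 : (1 : Γ((V : Scheme.{u}), ⊤)) ∈
        Ideal.span (Set.range fun i => g'.appTop (AffineSpace.coord S i)) := by
      rw [← htop]; trivial
    have h2 := (Scheme.mem_zeroLocus_iff _ _ _).mp hxZL 1 h1
    rw [Scheme.basicOpen_one] at h2
    exact h2 trivial
  · rw [Scheme.IdealSheafData.ker_subschemeι, coordIdeal_ideal_top, hspan]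
  · refine ⟨z₀, ?_⟩
    rw [Scheme.Hom.comp_apply, hz₀, hxVι]
  · exact MorphismProperty.of_isPullback (P := @Flat) sq hg'fl
  · exact MorphismProperty.of_isPullback (P := @LocallyOfFinitePresentation) sq hg'lfp
  · exact MorphismProperty.of_isPullback (P := @LocallyQuasiFinite) sq hg'lqf
  · intro z hz
    have hw := sq.w
    have e1 : g' (I.subschemeι z) = zeroSection _ S (f (V.ι (I.subschemeι z))) := by
      have := congrArg (fun φ : I.subscheme ⟶ 𝔸(ULift.{u} (Fin d); S) => φ z) hw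
      simpa only [Scheme.Hom.comp_apply] using this
    have e2 : g' (I.subschemeι z₀) = zeroSection _ S (f (V.ι (I.subschemeι z₀))) := by
      have := congrArg (fun φ : I.subscheme ⟶ 𝔸(ULift.{u} (Fin d); S) => φ z₀) hw
      simpa only [Scheme.Hom.comp_apply] using this
    rw [hz₀, hxVι] at e2
    rw [hz, ← e2] at e1
    rw [hg'def, Scheme.Hom.comp_apply, Scheme.Hom.comp_apply, hx'] at e1
    have e4 : X.homOfLE hVU (I.subschemeι z) ∈ O ∩ g ⁻¹' {g xU} :=
      ⟨(hwG _).2, e1⟩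
    rw [hOx] at e4
    have e5 : X.homOfLE hVU (I.subschemeι z) = xU := e4
    rw [← hι, e5, hxUι]

end Groth.Agent.Lib.Helper73
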