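import Mathlib

/-!
# Distinct variables of a polynomial ring form a weakly regular sequence (helper73)

* `isWeaklyRegular_map_X`: for a list `l` of distinct indices, `l.map X` is a weakly regular
  sequence on `MvPolynomial σ R`.
* `isWeaklyRegular_map_of_flat`: its image under a flat ring homomorphism is weakly regular.
-/

set_option autoImplicit false
universe u v

namespace Groth.Agent.Lib.Helper73

open RingTheory.Sequence

theorem isWeaklyRegular_map_X {σ : Type u} {R : Type v} [CommRing R] (l : List σ)
    (hl : l.Nodup) :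
    IsWeaklyRegular (MvPolynomial σ R) (l.map (MvPolynomial.X (R := R))) := by
  classical
  rw [isWeaklyRegular_iff]
  intro k hk
  rw [isSMulRegular_quotient_iff_mem_of_smul_mem]
  intro p hp
  rw [List.length_map] at hk
  have htake : Ideal.ofList ((l.map (MvPolynomial.X (R := R))).take k) =
      Ideal.span (MvPolynomial.X '' {j | j ∈ l.take k}) := by
    unfold Ideal.ofList
    congr 1
    ext r
    simp only [← List.map_take, List.mem_map, Set.mem_setOf_eq, Set.mem_image]
  have hget : (l.map (MvPolynomial.X (R := R)))[k]'(by simpa using hk) = MvPolynomial.X l[k] := by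
    simp
  rw [hget, smul_eq_mul, Ideal.mul_top, htake] at hp
  rw [smul_eq_mul, Ideal.mul_top, htake]
  rw [smul_eq_mul, MvPolynomial.mem_ideal_span_X_image] at hp
  rw [MvPolynomial.mem_ideal_span_X_image]
  intro m hm
  have hm' : Finsupp.single l[k] 1 + m ∈ (MvPolynomial.X l[k] * p).support := by
    rw [MvPolynomial.support_X_mul]
    exact Finset.mem_map.mpr ⟨m, hm, rfl⟩
  obtain ⟨j, hj, hne⟩ := hp _ hm'
  refine ⟨j, hj, ?_⟩
  have hjk : j ≠ l[k] := by
    rintro rfl
    simp only [Set.mem_setOf_eq] at hj
    obtain ⟨a, ha1, ha2⟩ := List.mem_take_iff_getElem.mp hj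
    have := (List.Nodup.getElem_inj_iff hl).mp ha2
    omega
  rw [Finsupp.add_apply, Finsupp.single_apply, if_neg (Ne.symm hjk), zero_add] at hne
  exact hne

theorem isWeaklyRegular_map_of_flat {σ : Type u} {R : Type v} [CommRing R] {B : Type*}
    [CommRing B] (φ : MvPolynomial σ R →+* B) (hφ : φ.Flat) (l : List σ) (hl : l.Nodup) :
    IsWeaklyRegular B (l.map (fun j => φ (MvPolynomial.X j))) := by
  letI : Algebra (MvPolynomial σ R) B := φ.toAlgebra
  haveI : Module.Flat (MvPolynomial σ R) B := hφ
  have := (isWeaklyRegular_map_X (R := R) l hl).of_flat (S := B)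
  rw [List.map_map] at this
  exact this

end Groth.Agent.Lib.Helper73
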