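import Groth.Agent.Lib.Helper73.DimFormula.Slice.SliceNNScheme
import Groth.Agent.Lib.Helper73.DimFormula.Slice.MvPolyRegular

/-!
# Slicing by the coordinates of a morphism to affine space (helper73)

* `chartRingHom`, `chart_factor`, `flat_chartRingHom`: a morphism from an affine open to an affine
  space, on affine charts.
* `isWeaklyRegular_appTop_coord`: the pullbacks of distinct coordinates along a flat morphism
  to an affine space form a weakly regular sequence.
* `zeroSection`, `coordIdeal`, `isPullback_coordIdeal`: the closed subscheme cut out by the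
  coordinates is the pullback of the zero section.
-/

set_option autoImplicit false
open CategoryTheory AlgebraicGeometry TopologicalSpace Topology Limits
universe u

namespace Groth.Agent.Lib.Helper73

section ChartFactor

variable {X Y : Scheme.{u}} (f : X ⟶ Y) {U : X.Opens} (hU : IsAffineOpen U) {V : Y.Opens}
  (hV : IsAffineOpen V) (hUV : U ≤ f ⁻¹ᵁ V) (n : Type u)

lemma chartVector_eq (ψ : MvPolynomial n Γ(Y, V) →+* Γ(X, U)) (i : n) :
    chartVector hU n ψ i = U.topIso.inv (ψ (MvPolynomial.X i)) := by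
  unfold chartVector
  rw [IsAffineOpen.isoSpec_hom_appTop, CommRingCat.comp_apply,
    ← CommRingCat.comp_apply (Scheme.ΓSpecIso _).inv, Iso.inv_hom_id]
  rfl

/-- The ring homomorphism on affine charts associated with a morphism to an affine space. -/
noncomputable def chartRingHom (g : (U : Scheme.{u}) ⟶ 𝔸(n; Y)) :
    MvPolynomial n Γ(Y, V) →+* Γ(X, U) :=
  MvPolynomial.eval₂Hom (f.appLE V U hUV).hom
    (fun i => U.topIso.hom (g.appTop (AffineSpace.coord Y i)))

lemma chartRingHom_comp_C (g : (U : Scheme.{u}) ⟶ 𝔸(n; Y)) :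
    (chartRingHom f hUV n g).comp MvPolynomial.C = (f.appLE V U hUV).hom := by
  ext a
  simp [chartRingHom]

lemma chartRingHom_X (g : (U : Scheme.{u}) ⟶ 𝔸(n; Y)) (i : n) :
    chartRingHom f hUV n g (MvPolynomial.X i) =
      U.topIso.hom (g.appTop (AffineSpace.coord Y i)) := by
  simp [chartRingHom]

lemma chartVector_chartRingHom (g : (U : Scheme.{u}) ⟶ 𝔸(n; Y)) (i : n) :
    chartVector hU n (chartRingHom f hUV n g) i = g.appTop (AffineSpace.coord Y i) := by
  rw [chartVector_eq, chartRingHom_X, ← CommRingCat.comp_apply, Iso.hom_inv_id]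
  rfl

theorem chart_factor (g : (U : Scheme.{u}) ⟶ 𝔸(n; Y))
    (hg : g ≫ (𝔸(n; Y) ↘ Y) = U.ι ≫ f) :
    hU.isoSpec.inv ≫ g =
      Spec.map (CommRingCat.ofHom (chartRingHom f hUV n g)) ≫ affineSpaceChart hV n := by
  rw [← chart_square f hU hV hUV n _ (chartRingHom_comp_C f hUV n g)]
  congr 1
  apply AffineSpace.hom_ext
  · rw [hg, AffineSpace.homOfVector_over]
  · intro i
    rw [AffineSpace.homOfVector_appTop_coord, chartVector_chartRingHom]

include hU hV in
theorem flat_chartRingHom (g : (U : Scheme.{u}) ⟶ 𝔸(n; Y))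
    (hg : g ≫ (𝔸(n; Y) ↘ Y) = U.ι ≫ f) [Flat g] : (chartRingHom f hUV n g).Flat := by
  have h1 : Flat (hU.isoSpec.inv ≫ g) := inferInstance
  rw [chart_factor f hU hV hUV n g hg] at h1
  haveI : MorphismProperty.HasOfPostcompProperty @Flat.{u} @IsOpenImmersion.{u} :=
    AlgebraicGeometry.instHasOfPostcompPropertySchemeIsOpenImmersionOfIsStableUnderBaseChange
      @Flat
  have h2 : Flat (Spec.map (CommRingCat.ofHom (chartRingHom f hUV n g))) :=
    MorphismProperty.of_postcomp (W := @Flat) (W' := @IsOpenImmersion) _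
      (affineSpaceChart hV n) inferInstance h1
  exact (HasRingHomProperty.Spec_iff (P := @Flat)).mp h2

include hU hV hUV in
theorem isWeaklyRegular_appTop_coord (g : (U : Scheme.{u}) ⟶ 𝔸(n; Y))
    (hg : g ≫ (𝔸(n; Y) ↘ Y) = U.ι ≫ f) [Flat g] (l : List n) (hl : l.Nodup) :
    RingTheory.Sequence.IsWeaklyRegular Γ((U : Scheme.{u}), ⊤)
      (l.map (fun i => g.appTop (AffineSpace.coord Y i))) := by
  have hfl := flat_chartRingHom f hU hV hUV n g hg
  have hfl' : (U.topIso.inv.hom.comp (chartRingHom f hUV n g)).Flat :=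
    RingHom.Flat.comp hfl
      (RingHom.Flat.of_bijective (ConcreteCategory.bijective_of_isIso U.topIso.inv))
  have := isWeaklyRegular_map_of_flat _ hfl' l hl
  convert this using 2
  funext i
  rw [RingHom.comp_apply, chartRingHom_X]
  change _ = (U.topIso.hom ≫ U.topIso.inv) _
  rw [Iso.hom_inv_id]
  rfl

end ChartFactor

section ZeroSection

variable (n : Type u) (Y : Scheme.{u})

/-- The zero section of the affine space over `Y`. -/
noncomputable def zeroSection : Y ⟶ 𝔸(n; Y) := AffineSpace.homOfVector (𝟙 Y) (fun _ => 0)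

@[reassoc]
lemma zeroSection_over : zeroSection n Y ≫ (𝔸(n; Y) ↘ Y) = 𝟙 Y :=
  AffineSpace.homOfVector_over _ _

lemma zeroSection_appTop_coord (i : n) :
    (zeroSection n Y).appTop (AffineSpace.coord Y i) = 0 :=
  AffineSpace.homOfVector_appTop_coord _ _ _

end ZeroSection

section SliceSquare

variable {n : Type u} {Y T : Scheme.{u}} (g : T ⟶ 𝔸(n; Y))

/-- The ideal sheaf generated by the pullbacks of the coordinates. -/
noncomputable def coordIdeal : T.IdealSheafData :=
  Scheme.IdealSheafData.ofIdealTop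
    (Ideal.span (Set.range fun i => g.appTop (AffineSpace.coord Y i)))

lemma coordIdeal_ideal_top [IsAffine T] : (coordIdeal g).ideal ⟨⊤, isAffineOpen_top T⟩ =
    Ideal.span (Set.range fun i => g.appTop (AffineSpace.coord Y i)) := by
  unfold coordIdeal
  rw [Scheme.IdealSheafData.ofIdealTop_ideal]
  convert Ideal.map_id _
  simp

lemma subschemeι_appTop_coord [IsAffine T] (i : n) :
    (coordIdeal g).subschemeι.appTop (g.appTop (AffineSpace.coord Y i)) = 0 := by
  have h1 := (coordIdeal g).ker_subschemeι_app ⟨⊤, isAffineOpen_top T⟩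
  rw [coordIdeal_ideal_top] at h1
  have h2 : g.appTop (AffineSpace.coord Y i) ∈
      Ideal.span (Set.range fun i => g.appTop (AffineSpace.coord Y i)) :=
    Ideal.subset_span ⟨i, rfl⟩
  rw [← h1] at h2
  exact h2

lemma coordIdeal_le_ker {T' : Scheme.{u}} (a : T' ⟶ T)
    (ha : ∀ i, a.appTop (g.appTop (AffineSpace.coord Y i)) = 0) :
    coordIdeal g ≤ a.ker := by
  unfold Scheme.Hom.ker
  rw [Scheme.IdealSheafData.le_ofIdeals_iff]
  intro U
  unfold coordIdeal
  rw [Scheme.IdealSheafData.ofIdealTop_ideal, Ideal.map_le_iff_le_comap, Ideal.span_le]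
  rintro _ ⟨i, rfl⟩
  change (a.app U.1).hom ((T.presheaf.map (homOfLE le_top).op).hom
    (g.appTop (AffineSpace.coord Y i))) = 0
  have := a.naturality (homOfLE (le_top : U.1 ≤ ⊤)).op
  have h2 := congrArg (fun φ => φ.hom (g.appTop (AffineSpace.coord Y i))) this
  simp only [CommRingCat.hom_comp, RingHom.comp_apply] at h2
  rw [h2]
  have h3 := ha i
  change (a.app ⊤).hom _ = 0 at h3
  rw [h3, map_zero]

theorem isPullback_coordIdeal [IsAffine T] :
    IsPullback (coordIdeal g).subschemeι ((coordIdeal g).subschemeι ≫ g ≫ (𝔸(n; Y) ↘ Y)) g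
      (zeroSection n Y) := by
  have hw : (coordIdeal g).subschemeι ≫ g =
      ((coordIdeal g).subschemeι ≫ g ≫ (𝔸(n; Y) ↘ Y)) ≫ zeroSection n Y := by
    apply AffineSpace.hom_ext
    · simp only [Category.assoc, zeroSection_over, Category.comp_id]
    · intro i
      rw [Scheme.Hom.comp_appTop, CommRingCat.comp_apply, subschemeι_appTop_coord,
        Scheme.Hom.comp_appTop, CommRingCat.comp_apply, zeroSection_appTop_coord, map_zero]
  refine ⟨⟨hw⟩, ⟨PullbackCone.IsLimit.mk _ (fun s => IsClosedImmersion.lift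
    (coordIdeal g).subschemeι s.fst ?_) ?_ ?_ ?_⟩⟩
  · rw [Scheme.IdealSheafData.ker_subschemeι]
    apply coordIdeal_le_ker
    intro i
    rw [← CommRingCat.comp_apply, ← Scheme.Hom.comp_appTop, s.condition, Scheme.Hom.comp_appTop,
      CommRingCat.comp_apply, zeroSection_appTop_coord, map_zero]
  · intro s
    exact IsClosedImmersion.lift_fac _ _ _
  · intro s
    rw [IsClosedImmersion.lift_fac_assoc, ← Category.assoc, s.condition, Category.assoc,
      zeroSection_over, Category.comp_id]
  · intro s m hm _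
    rw [← cancel_mono (coordIdeal g).subschemeι, hm, IsClosedImmersion.lift_fac]

end SliceSquare

end Groth.Agent.Lib.Helper73
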