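import Groth.Agent.Lib.Helper73.DimFormula.Slice.SliceCore
import Groth.Agent.Lib.Helper73.DimFormula.CMFlat.CMLocusFP
import Groth.Agent.Lib.Helper19.Grp.FlatBaseChangePt
import Groth.Agent.Lib.Helper73.DimFormula.CMFlat.FibCMCons

/-!
# Slicing a Cohen–Macaulay morphism by one function (helper73)

* `flat_stalkMap_of_isPullback`, `isCMAt_of_isPullback`: pointwise flatness / Cohen–Macaulayness are
  preserved by arbitrary base change (`f` locally of finite presentation).
* `isCMAt_homOfVector_of_cut`: if `f` is CM at `x` with fibre dimension `n + 1`, `κ(x)` algebraic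
  over `κ(f x)`, and `c` vanishes at `x` but at no maximal point of the fibre generizing `x`, then
  `(f, c) : X ⟶ 𝔸¹_Y` is CM at `x` with fibre dimension `n`.
* `coordIdeal_congr`, `slice_subscheme`: the closed subscheme `V(c)` is CM over `Y` at `x` with
  fibre dimension `n`.
-/

set_option autoImplicit false
open CategoryTheory AlgebraicGeometry TopologicalSpace Topology Limits
universe u

namespace Groth.Agent.Lib.Helper73

open Groth.Agent.Lib.Helper67.FiberStalk Groth.Agent.Lib.Helper67.FiberTower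

/-- Pointwise flatness is preserved by arbitrary base change (for morphisms locally of finite
presentation). -/
theorem flat_stalkMap_of_isPullback {X' X Y' Y : Scheme.{u}} {k : X' ⟶ X} {f' : X' ⟶ Y'}
    {f : X ⟶ Y} {g : Y' ⟶ Y} (sq : IsPullback k f' f g) [LocallyOfFinitePresentation f]
    (x' : X') (hx : (f.stalkMap (k x')).hom.Flat) : (f'.stalkMap x').hom.Flat := by
  let U := Groth.Agent.Lib.Helper19.flatLocus f
  have sq' : IsPullback (k ∣_ U) ((k ⁻¹ᵁ U).ι ≫ f') (U.ι ≫ f) g :=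
    (isPullback_morphismRestrict k U).paste_vert sq
  have : Flat ((k ⁻¹ᵁ U).ι ≫ f') :=
    MorphismProperty.of_isPullback (P := @Flat) sq' inferInstance
  exact Groth.Agent.Lib.Helper19.flat_stalkMap_of_ι_comp f' (k ⁻¹ᵁ U) x' hx

/-- Being Cohen–Macaulay at a point is preserved by arbitrary base change. -/
theorem isCMAt_of_isPullback {X' X Y' Y : Scheme.{u}} {k : X' ⟶ X} {f' : X' ⟶ Y'}
    {f : X ⟶ Y} {g : Y' ⟶ Y} (sq : IsPullback k f' f g) [LocallyOfFinitePresentation f]
    (x' : X') (h : MoreMor.IsCMAt f (k x')) : MoreMor.IsCMAt f' x' :=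
  ⟨flat_stalkMap_of_isPullback sq x' h.1, (fibCM_iff_of_isPullback sq x').mpr h.2⟩

/-- **Slicing by a function**: if `f` is Cohen–Macaulay at `x` with fibre of dimension `n + 1` at
`x`, `κ(x)` algebraic over `κ(f x)`, and `c` is a global function vanishing at `x` but at no
maximal point of the fibre generizing `x`, then `(f, c) : X ⟶ 𝔸¹_Y` is Cohen–Macaulay at `x` with
fibre of dimension `n`. -/
theorem isCMAt_homOfVector_of_cut {X Y : Scheme.{u}} (f : X ⟶ Y) [LocallyOfFinitePresentation f]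
    (x : X) (hCM : MoreMor.IsCMAt f x) (n : ℕ)
    (hn : FlatMor.fibreDimAt f x = ((n + 1 : ℕ) : WithBot ℕ∞)) (hr : resTrdegNat f x = 0)
    (c : Γ(X, ⊤)) (hcx : x ∉ X.basicOpen c)
    (hcz : ∀ z : X, z ⤳ x → f z = f x → (∀ t : X, t ⤳ z → f t = f z → t = z) →
      z ∈ X.basicOpen c) :
    MoreMor.IsCMAt (AffineSpace.homOfVector f (fun _ : ULift.{u} (Fin 1) => c)) x ∧
      FlatMor.fibreDimAt (AffineSpace.homOfVector f (fun _ : ULift.{u} (Fin 1) => c)) x =
        ((n : ℕ) : WithBot ℕ∞) ∧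
      resTrdegNat (AffineSpace.homOfVector f (fun _ : ULift.{u} (Fin 1) => c)) x = 0 := by
  set φ := AffineSpace.homOfVector f (fun _ : ULift.{u} (Fin 1) => c) with hφ
  set π := (𝔸(ULift.{u} (Fin 1); Y) ↘ Y) with hπ
  have hover : φ ≫ π = f := AffineSpace.homOfVector_over _ _
  haveI : LocallyOfFinitePresentation (φ ≫ π) := by rw [hover]; infer_instance
  haveI hφlfp : LocallyOfFinitePresentation φ := Groth.Agent.Lib.Helper54.CPF.lfp_of_comp φ π
  -- the coordinate pulls back to `c`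
  have hcoord : φ.appTop (AffineSpace.coord Y ⟨0⟩) = c :=
    AffineSpace.homOfVector_appTop_coord _ _ _
  have hpre : φ ⁻¹ᵁ (𝔸(ULift.{u} (Fin 1); Y)).basicOpen (AffineSpace.coord Y ⟨0⟩) =
      X.basicOpen c := by
    rw [Scheme.preimage_basicOpen_top, hcoord]
  have hcut : ∀ z : X, z ⤳ x → (φ ≫ π) z = (φ ≫ π) x →
      (∀ t' : X, t' ⤳ z → (φ ≫ π) t' = (φ ≫ π) z → t' = z) → φ z ≠ φ x := by
    intro z hzx hfz hzmax hφz
    rw [hover] at hfz hzmax
    have h1 := hcz z hzx hfz hzmax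
    rw [← hpre] at h1
    have h2 : φ z ∈ (𝔸(ULift.{u} (Fin 1); Y)).basicOpen (AffineSpace.coord Y ⟨0⟩) := h1
    rw [hφz] at h2
    apply hcx
    rw [← hpre]
    exact h2
  have h1 := ringKrullDim_fiber_stalk_add_one_le φ π x hcut
  -- residual transcendence degrees
  have hr' : resTrdegNat (φ ≫ π) x = 0 := by rw [resTrdegNat_congr hover x]; exact hr
  have hrφ : resTrdegNat φ x = 0 := by
    have := resTrdegNat_comp φ π x
    omega
  have hrπ : resTrdegNat π (φ x) = 0 := by
    have := resTrdegNat_comp φ π x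
    omega
  -- dimensions
  obtain ⟨m, hm⟩ := exists_ringKrullDim_fiber_stalk_eq_natCast (φ ≫ π) x
  obtain ⟨m', hm'⟩ := exists_ringKrullDim_fiber_stalk_eq_natCast φ x
  obtain ⟨m'', hm''⟩ := exists_ringKrullDim_fiber_stalk_eq_natCast π (φ x)
  have hn' : FlatMor.fibreDimAt (φ ≫ π) x = ((n + 1 : ℕ) : WithBot ℕ∞) := by
    rw [← hn]; congr 1
  have e1 : m = n + 1 := by
    rw [fibreDimAt_eq, hm, hr'] at hn'
    exact_mod_cast hn'
  have e2 : m' + 1 ≤ m := by
    rw [hm, hm'] at h1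
    exact_mod_cast h1
  have e3 : m'' = 1 := by
    have := fibreDimAt_affineSpace (ULift.{u} (Fin 1)) Y (φ x)
    rw [natCard_ulift_fin, fibreDimAt_eq, hm'', hrπ] at this
    exact_mod_cast this
  have hφfd : FlatMor.fibreDimAt φ x = ((m' : ℕ) : WithBot ℕ∞) := by
    rw [fibreDimAt_eq, hm', hrφ]
    simp
  -- lower bound by Chevalley
  have e4 : n ≤ m' := by
    have hopen := isOpen_fibreDimAt_le m' X _ φ
    have hx : ∀ η : X, η ⤳ x → FlatMor.fibreDimAt φ η ≤ ((m' : ℕ) : WithBot ℕ∞) := by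
      intro η hη
      exact hη.mem_open hopen hφfd.le
    have h2 := fibreDimAt_comp_le φ π m' 1
      (fun w => by
        have := resTrdegNat_affineSpace_le (ULift.{u} (Fin 1)) Y w
        rwa [natCard_ulift_fin] at this) x hx
    rw [hn'] at h2
    have : n + 1 ≤ m' + 1 := by exact_mod_cast h2
    omega
  have e5 : m' = n := by omega
  -- flatness
  have hdim : ringKrullDim (((φ ≫ π).fiber ((φ ≫ π) x)).presheaf.stalk ((φ ≫ π).asFiber x)) =
      ringKrullDim ((π.fiber (π (φ x))).presheaf.stalk (π.asFiber (φ x))) +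
        ringKrullDim ((φ.fiber (φ x)).presheaf.stalk (φ.asFiber x)) := by
    rw [hm, hm', hm'', e1, e3, e5]
    push_cast
    rw [add_comm]
  have hCM' : MoreMor.IsCMAt (φ ≫ π) x := by rw [hover]; exact hCM
  have hfl := flat_stalkMap_of_tower_fp π φ (φ ≫ π) rfl x hCM'.1
    (isRegularLocalRing_affineSpace_fiber_stalk _ Y (φ x)) hCM'.2 hdim
  have hNπ : IsNoetherianRing (Q π (φ x)) :=
    isNoetherianRing_Q π (φ x)
      (LocallyOfFiniteType.isLocallyNoetherian (π.fiberToSpecResidueField (π (φ x))))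
  refine ⟨(isCMAt_of_comp φ π x hNπ hCM' hfl).1, ?_, hrφ⟩
  rw [hφfd, e5]

end Groth.Agent.Lib.Helper73

namespace Groth.Agent.Lib.Helper73

lemma coordIdeal_congr {n : Type u} {Y Y' T : Scheme.{u}} (g₁ : T ⟶ 𝔸(n; Y)) (g₂ : T ⟶ 𝔸(n; Y'))
    (h : ∀ i, g₁.appTop (AffineSpace.coord Y i) = g₂.appTop (AffineSpace.coord Y' i)) :
    coordIdeal g₁ = coordIdeal g₂ := by
  unfold coordIdeal
  have : (fun i => g₁.appTop (AffineSpace.coord Y i)) =
      (fun i => g₂.appTop (AffineSpace.coord Y' i)) := funext h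
  rw [this]

/-- **Slicing by a function, subscheme form.** -/
theorem slice_subscheme {X Y : Scheme.{u}} [IsAffine X] (f : X ⟶ Y)
    [LocallyOfFinitePresentation f]
    (x : X) (hCM : MoreMor.IsCMAt f x) (n : ℕ)
    (hn : FlatMor.fibreDimAt f x = ((n + 1 : ℕ) : WithBot ℕ∞)) (hr : resTrdegNat f x = 0)
    (c : Γ(X, ⊤)) (hcx : x ∉ X.basicOpen c)
    (hcz : ∀ z : X, z ⤳ x → f z = f x → (∀ t : X, t ⤳ z → f t = f z → t = z) →
      z ∈ X.basicOpen c)
    (I : X.IdealSheafData)
    (hI : I = coordIdeal (AffineSpace.homOfVector f (fun _ : ULift.{u} (Fin 1) => c))) :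
    ∃ w : I.subscheme, I.subschemeι w = x ∧ MoreMor.IsCMAt (I.subschemeι ≫ f) w ∧
      FlatMor.fibreDimAt (I.subschemeι ≫ f) w = ((n : ℕ) : WithBot ℕ∞) ∧
      resTrdegNat (I.subschemeι ≫ f) w = 0 := by
  subst hI
  set φ := AffineSpace.homOfVector f (fun _ : ULift.{u} (Fin 1) => c) with hφ
  set π := (𝔸(ULift.{u} (Fin 1); Y) ↘ Y) with hπ
  have hover : φ ≫ π = f := AffineSpace.homOfVector_over _ _
  haveI : LocallyOfFinitePresentation (φ ≫ π) := by rw [hover]; infer_instance
  haveI hφlfp : LocallyOfFinitePresentation φ := Groth.Agent.Lib.Helper54.CPF.lfp_of_comp φ π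
  obtain ⟨h1, h2, h3⟩ := isCMAt_homOfVector_of_cut f x hCM n hn hr c hcx hcz
  have hcoord : ∀ i, φ.appTop (AffineSpace.coord Y i) = c :=
    fun i => AffineSpace.homOfVector_appTop_coord _ _ _
  have hxI : x ∈ Set.range (coordIdeal φ).subschemeι := by
    rw [Scheme.IdealSheafData.range_subschemeι, SetLike.mem_coe,
      Scheme.IdealSheafData.mem_support_iff_of_mem (U := ⟨⊤, isAffineOpen_top _⟩) trivial,
      coordIdeal_ideal_top, Scheme.zeroLocus_span, Scheme.mem_zeroLocus_iff]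
    rintro _ ⟨i, rfl⟩
    change x ∉ X.basicOpen (φ.appTop (AffineSpace.coord Y i))
    rw [hcoord]
    exact hcx
  obtain ⟨w, hw⟩ := hxI
  have sq := isPullback_coordIdeal φ
  have hcomp : (coordIdeal φ).subschemeι ≫ φ ≫ π = (coordIdeal φ).subschemeι ≫ f := by
    rw [hover]
  rw [hcomp] at sq
  refine ⟨w, hw, isCMAt_of_isPullback sq w (by rw [hw]; exact h1), ?_, ?_⟩
  · rw [fibreDimAt_eq_of_isPullback φ _ _ _ sq w, hw]
    exact h2
  · rw [resTrdegNat_comp_of_isPreimmersion, hw]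
    exact hr

end Groth.Agent.Lib.Helper73
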