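import Groth.Agent.Lib.Helper73.DimFormula.AffineSpaceQF

/-!
# Noether normalisation at a point closed in its fibre (helper73)

Refinements of `exists_specPolyMap_fibreDimAt_le`, `exists_mvPolynomial_quasiFiniteAt` and
`exists_locallyQuasiFinite_toAffineSpace`: at a point whose residue field is algebraic over the
residue field of its image, the coordinates can be chosen to vanish at the point.

* `resTrdegNat_eq_zero_of_isClosed_asFiber`
* `exists_specPolyMap_fibreDimAt_le_of_resTrdegNat_eq_zero`
* `exists_mvPolynomial_quasiFiniteAt_of_resTrdegNat_eq_zero`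
* `exists_locallyQuasiFinite_toAffineSpace_of_resTrdegNat_eq_zero`
-/

set_option autoImplicit false
open CategoryTheory AlgebraicGeometry TopologicalSpace Topology Limits
universe u

namespace Groth.Agent.Lib.Helper73

/-- A point closed in its fibre has residue field algebraic over that of its image. -/
theorem resTrdegNat_eq_zero_of_isClosed_asFiber {X Y : Scheme.{u}} (f : X ⟶ Y)
    [LocallyOfFiniteType f] (x : X)
    (hx : IsClosed ({f.asFiber x} : Set ↑(f.fiber (f x)))) : resTrdegNat f x = 0 := by
  unfold resTrdegNat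
  rw [resTrdeg_eq_natCast f x, Cardinal.toNat_natCast]
  exact trdegNat_eq_zero_of_isClosed _ hx

section AffineStep

open Polynomial

variable (A B : Type u) [CommRing A] [CommRing B] [Algebra A B] [Algebra.FiniteType A B]

set_option backward.isDefEq.respectTransparency.types false in
/-- Existence of a coordinate vanishing at `x` cutting down the fibre dimension at `x`, when the
residue field extension at `x` is algebraic. -/
theorem exists_specPolyMap_fibreDimAt_le_of_resTrdegNat_eq_zero (n : ℕ)
    (x : Spec (CommRingCat.of B))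
    (hx : FlatMor.fibreDimAt (Spec.map (CommRingCat.ofHom (algebraMap A B))) x ≤
      ((n + 1 : ℕ) : WithBot ℕ∞))
    (hx' : ¬ FlatMor.fibreDimAt (Spec.map (CommRingCat.ofHom (algebraMap A B))) x ≤
      ((n : ℕ) : WithBot ℕ∞))
    (hr : resTrdegNat (Spec.map (CommRingCat.ofHom (algebraMap A B))) x = 0) :
    ∃ t : B, t ∈ x.asIdeal ∧ ∃ _ : LocallyOfFiniteType (specPolyMap A t),
      FlatMor.fibreDimAt (specPolyMap A t) x ≤ ((n : ℕ) : WithBot ℕ∞) ∧
        resTrdegNat (specPolyMap A t) x = 0 := by
  have hf : LocallyOfFiniteType (Spec.map (CommRingCat.ofHom (algebraMap A B))) :=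
    (HasRingHomProperty.Spec_iff (P := @LocallyOfFiniteType)).mpr
      (RingHom.finiteType_algebraMap.mpr inferInstance)
  have hg : ∀ t : B, LocallyOfFiniteType (specPolyMap A t) := by
    intro t
    have : LocallyOfFiniteType (specPolyMap A t ≫ specPolyProj A) := by
      rw [specPolyMap_comp_proj]; exact hf
    exact locallyOfFiniteType_of_comp (specPolyMap A t) (specPolyProj A)
  let q : Ideal B := x.asIdeal
  have hZfin := finite_maximal_fiber_generizations
    (Spec.map (CommRingCat.ofHom (algebraMap A B))) x
  have hxZ : x ∉ {z : Spec (CommRingCat.of B) | z ⤳ x ∧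
      (Spec.map (CommRingCat.ofHom (algebraMap A B))) z =
        (Spec.map (CommRingCat.ofHom (algebraMap A B))) x ∧
      ∀ t' : Spec (CommRingCat.of B), t' ⤳ z →
        (Spec.map (CommRingCat.ofHom (algebraMap A B))) t' =
          (Spec.map (CommRingCat.ofHom (algebraMap A B))) z → t' = z} := by
    rintro ⟨-, -, hmax⟩
    apply hx'
    rw [fibreDimAt_eq, ringKrullDim_fiber_stalk_eq_zero_of_maximal _ x
      (fun t ht hft => hmax t ht hft), hr]
    simp
  have hnot : ¬ ((q : Set B) ⊆ ⋃ z ∈ (hZfin.toFinset : Set (Spec (CommRingCat.of B))),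
      (z.asIdeal : Set B)) := by
    rw [Ideal.subset_union_prime x x (fun z _ _ _ => z.isPrime)]
    rintro ⟨z, hz, hqz⟩
    have hzZ := hZfin.mem_toFinset.mp hz
    let x' : PrimeSpectrum B := x
    let z' : PrimeSpectrum B := z
    have hxz : x ⤳ z := (PrimeSpectrum.le_iff_specializes x' z').mp hqz
    have hzx : z = x := (hzZ.1.antisymm hxz).eq
    rw [hzx] at hzZ
    exact hxZ hzZ
  obtain ⟨t, htq, htZ⟩ := Set.not_subset.mp hnot
  have htZ' : ∀ z : Spec (CommRingCat.of B), z ⤳ x →
      (Spec.map (CommRingCat.ofHom (algebraMap A B))) z =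
        (Spec.map (CommRingCat.ofHom (algebraMap A B))) x →
      (∀ t' : Spec (CommRingCat.of B), t' ⤳ z →
        (Spec.map (CommRingCat.ofHom (algebraMap A B))) t' =
          (Spec.map (CommRingCat.ofHom (algebraMap A B))) z → t' = z) → t ∉ z.asIdeal := by
    intro z h1 h2 h3 htz
    apply htZ
    simp only [Set.mem_iUnion]
    exact ⟨z, hZfin.mem_toFinset.mpr ⟨h1, h2, h3⟩, htz⟩
  refine ⟨t, htq, hg t, ?_⟩
  have := hg t
  have hcut : ∀ z : Spec (CommRingCat.of B), z ⤳ x →
      (specPolyMap A t ≫ specPolyProj A) z = (specPolyMap A t ≫ specPolyProj A) x →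
      (∀ t' : Spec (CommRingCat.of B), t' ⤳ z →
        (specPolyMap A t ≫ specPolyProj A) t' = (specPolyMap A t ≫ specPolyProj A) z → t' = z) →
      (specPolyMap A t) z ≠ (specPolyMap A t) x := by
    intro z hzx hfz hzmax hgz
    rw [specPolyMap_comp_proj] at hfz hzmax
    have hX : (X : A[X]) ∈ ((specPolyMap A t) x).asIdeal := by
      change Polynomial.aeval t X ∈ q
      rw [Polynomial.aeval_X]; exact htq
    rw [← hgz] at hX
    have hX' : Polynomial.aeval t (X : A[X]) ∈ z.asIdeal := hX
    rw [Polynomial.aeval_X] at hX'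
    exact htZ' z hzx hfz hzmax hX'
  have h1 := ringKrullDim_fiber_stalk_add_one_le (specPolyMap A t) (specPolyProj A) x hcut
  have hx2 : FlatMor.fibreDimAt (specPolyMap A t ≫ specPolyProj A) x ≤
      ((n + 1 : ℕ) : WithBot ℕ∞) := by
    rw [specPolyMap_comp_proj]; exact hx
  have hr2 : resTrdegNat (specPolyMap A t ≫ specPolyProj A) x = 0 := by
    rw [specPolyMap_comp_proj]; exact hr
  have hrg : resTrdegNat (specPolyMap A t) x = 0 := by
    have := resTrdegNat_comp (specPolyMap A t) (specPolyProj A) x
    omega
  refine ⟨?_, hrg⟩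
  rw [fibreDimAt_eq] at hx2 ⊢
  obtain ⟨m, hm⟩ := exists_ringKrullDim_fiber_stalk_eq_natCast
    (specPolyMap A t ≫ specPolyProj A) x
  obtain ⟨m', hm'⟩ := exists_ringKrullDim_fiber_stalk_eq_natCast (specPolyMap A t) x
  rw [hm, hm'] at h1
  rw [hm, hr2] at hx2
  rw [hm']
  rw [hrg]
  have e1 : m' + 1 ≤ m := by exact_mod_cast h1
  have e2 : m + 0 ≤ n + 1 := by exact_mod_cast hx2
  have : m' + 0 ≤ n := by omega
  exact_mod_cast this

end AffineStep

open Polynomial in
set_option backward.isDefEq.respectTransparency.types false in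
/-- Noether normalisation at a point with algebraic residue field extension: the coordinates can
be taken to vanish at the point. -/
theorem exists_mvPolynomial_quasiFiniteAt_of_resTrdegNat_eq_zero (n : ℕ) :
    ∀ (A B : Type u) [CommRing A] [CommRing B]
    [Algebra A B] [Algebra.FiniteType A B] (x : Spec (CommRingCat.of B)),
    FlatMor.fibreDimAt (Spec.map (CommRingCat.ofHom (algebraMap A B))) x ≤
      ((n : ℕ) : WithBot ℕ∞) →
    resTrdegNat (Spec.map (CommRingCat.ofHom (algebraMap A B))) x = 0 →
    ∃ π : MvPolynomial (Fin n) A →ₐ[A] B,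
      (Spec.map (CommRingCat.ofHom π.toRingHom)).QuasiFiniteAt x ∧
        ∀ i, π (MvPolynomial.X i) ∈ x.asIdeal := by
  induction n with
  | zero =>
    intro A B _ _ _ _ x hx _
    have hf : LocallyOfFiniteType (Spec.map (CommRingCat.ofHom (algebraMap A B))) :=
      (HasRingHomProperty.Spec_iff (P := @LocallyOfFiniteType)).mpr
        (RingHom.finiteType_algebraMap.mpr inferInstance)
    let e : MvPolynomial (Fin 0) A ≃ₐ[A] A := MvPolynomial.isEmptyAlgEquiv A (Fin 0)
    refine ⟨(Algebra.ofId A B).comp e.toAlgHom, ?_, fun i => i.elim0⟩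
    have h1 : ((Algebra.ofId A B).comp e.toAlgHom).toRingHom =
        (algebraMap A B).comp e.toRingEquiv.toRingHom := rfl
    rw [h1, quasiFiniteAt_SpecMap_comp_ringEquiv, quasiFiniteAt_iff_fibreDimAt_le_zero]
    exact hx
  | succ n IH =>
    intro A B _ _ _ _ x hx hr
    have hf : LocallyOfFiniteType (Spec.map (CommRingCat.ofHom (algebraMap A B))) :=
      (HasRingHomProperty.Spec_iff (P := @LocallyOfFiniteType)).mpr
        (RingHom.finiteType_algebraMap.mpr inferInstance)
    by_cases hx' : FlatMor.fibreDimAt (Spec.map (CommRingCat.ofHom (algebraMap A B))) x ≤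
        ((n : ℕ) : WithBot ℕ∞)
    · obtain ⟨π₀, hπ₀, hπ₀x⟩ := IH A B x hx' hr
      let w : Fin (n + 1) → B := fun i => Fin.lastCases (0 : B) (fun j => π₀ (MvPolynomial.X j)) i
      let π : MvPolynomial (Fin (n + 1)) A →ₐ[A] B := MvPolynomial.aeval w
      have hπ : π.comp (MvPolynomial.rename Fin.castSucc) = π₀ := by
        apply MvPolynomial.algHom_ext
        intro j
        change π (MvPolynomial.rename Fin.castSucc (MvPolynomial.X j)) = _
        rw [MvPolynomial.rename_X]
        change MvPolynomial.aeval w (MvPolynomial.X (Fin.castSucc j)) = _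
        rw [MvPolynomial.aeval_X]
        simp only [w, Fin.lastCases_castSucc]
      refine ⟨π, ?_, ?_⟩
      · have h1 : π₀.toRingHom = π.toRingHom.comp
            (MvPolynomial.rename (R := A) (Fin.castSucc (n := n))).toRingHom := by
          rw [← hπ]; rfl
        rw [h1, CommRingCat.ofHom_comp, Spec.map_comp] at hπ₀
        exact quasiFiniteAt_of_comp _ _ x hπ₀
      · intro i
        change MvPolynomial.aeval w (MvPolynomial.X i) ∈ _
        rw [MvPolynomial.aeval_X]
        induction i using Fin.lastCases with
        | last => simp only [w, Fin.lastCases_last]; exact zero_mem _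
        | cast j => simp only [w, Fin.lastCases_castSucc]; exact hπ₀x j
    · obtain ⟨t, htx, hg, ht, hrt⟩ :=
        exists_specPolyMap_fibreDimAt_le_of_resTrdegNat_eq_zero A B n x hx hx' hr
      let _ : Algebra A[X] B := (Polynomial.aeval t : A[X] →ₐ[A] B).toRingHom.toAlgebra
      have hst : IsScalarTower A A[X] B := IsScalarTower.of_algebraMap_eq fun a => by
        change algebraMap A B a = Polynomial.aeval t (Polynomial.C a)
        rw [Polynomial.aeval_C]
      have hft : Algebra.FiniteType A[X] B := Algebra.FiniteType.of_restrictScalars_finiteType A _ _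
      obtain ⟨π₁, hπ₁, hπ₁x⟩ := IH A[X] B x ht hrt
      let E : MvPolynomial (Fin (n + 1)) A ≃ₐ[A] MvPolynomial (Fin n) A[X] :=
        (MvPolynomial.renameEquiv A (finSuccEquiv n)).trans (MvPolynomial.optionEquivRight A (Fin n))
      refine ⟨(π₁.restrictScalars A).comp E.toAlgHom, ?_, ?_⟩
      · have h1 : ((π₁.restrictScalars A).comp E.toAlgHom).toRingHom =
            π₁.toRingHom.comp E.toRingEquiv.toRingHom := rfl
        rw [h1, quasiFiniteAt_SpecMap_comp_ringEquiv]
        exact hπ₁
      · intro i
        change π₁ (E (MvPolynomial.X i)) ∈ _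
        have hE : E (MvPolynomial.X i) = MvPolynomial.optionEquivRight A (Fin n)
            (MvPolynomial.X (finSuccEquiv n i)) := by
          change MvPolynomial.optionEquivRight A (Fin n)
            (MvPolynomial.rename (finSuccEquiv n) (MvPolynomial.X i)) = _
          rw [MvPolynomial.rename_X]
        rw [hE]
        induction i using Fin.cases with
        | zero =>
          rw [finSuccEquiv_zero, MvPolynomial.optionEquivRight_X_none]
          rw [← MvPolynomial.algebraMap_eq, AlgHom.commutes]
          change Polynomial.aeval t (X : A[X]) ∈ _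
          rw [Polynomial.aeval_X]
          exact htx
        | succ j =>
          rw [finSuccEquiv_succ, MvPolynomial.optionEquivRight_X_some]
          exact hπ₁x j

end Groth.Agent.Lib.Helper73
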