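import Groth.Agent.Lib.Helper73.DimFormula.Slice.SliceNN

/-!
# Quasi-finite morphisms to affine space with coordinates vanishing at a point (helper73)

* `exists_locallyQuasiFinite_toAffineSpace_of_resTrdegNat_eq_zero`
-/

set_option autoImplicit false
open CategoryTheory AlgebraicGeometry TopologicalSpace Topology Limits
universe u

namespace Groth.Agent.Lib.Helper73

set_option backward.isDefEq.respectTransparency.types false in
/-- If the fibre of `f` through `x` has dimension `≤ e` at `x` and `κ(x)` is algebraic over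
`κ(f x)`, a neighbourhood of `x` admits a locally quasi-finite morphism to the affine space of
dimension `e` over the base whose coordinates all vanish at `x`. -/
theorem exists_locallyQuasiFinite_toAffineSpace_of_resTrdegNat_eq_zero {X Y : Scheme.{u}}
    (f : X ⟶ Y) [LocallyOfFiniteType f] (x : X) (e : ℕ)
    (hfd : FlatMor.fibreDimAt f x ≤ ((e : ℕ) : WithBot ℕ∞)) (hr : resTrdegNat f x = 0)
    (U₀ : X.Opens) (hxU₀ : x ∈ U₀) :
    ∃ (U : X.Opens) (g : (U : Scheme.{u}) ⟶ 𝔸(ULift.{u} (Fin e); Y)) (hxU : x ∈ U),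
      U ≤ U₀ ∧ g ≫ (𝔸(ULift.{u} (Fin e); Y) ↘ Y) = U.ι ≫ f ∧ LocallyQuasiFinite g ∧
      ∀ i, (⟨x, hxU⟩ : (U : Scheme.{u})) ∉
        (U : Scheme.{u}).basicOpen (g.appTop (AffineSpace.coord Y i)) := by
  obtain ⟨V, hV, hfxV, -⟩ :=
    exists_isAffineOpen_mem_and_subset (X := Y) (x := f x) (U := ⊤) trivial
  obtain ⟨U₁, hU₁, hxU₁, hU₁le⟩ :=
    exists_isAffineOpen_mem_and_subset (X := X) (x := x) (U := f ⁻¹ᵁ V ⊓ U₀) ⟨hfxV, hxU₀⟩
  have hUV : U₁ ≤ f ⁻¹ᵁ V := hU₁le.trans inf_le_left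
  have hU₁U₀ : U₁ ≤ U₀ := hU₁le.trans inf_le_right
  let _ : Algebra Γ(Y, V) Γ(X, U₁) := (f.appLE V U₁ hUV).hom.toAlgebra
  have hft : Algebra.FiniteType Γ(Y, V) Γ(X, U₁) :=
    HasRingHomProperty.appLE @LocallyOfFiniteType f inferInstance ⟨V, hV⟩ ⟨U₁, hU₁⟩ hUV
  have hf' : LocallyOfFiniteType (Spec.map (CommRingCat.ofHom (algebraMap Γ(Y, V) Γ(X, U₁)))) :=
    (HasRingHomProperty.Spec_iff (P := @LocallyOfFiniteType)).mpr
      (RingHom.finiteType_algebraMap.mpr inferInstance)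
  have hsq : Spec.map (CommRingCat.ofHom (algebraMap Γ(Y, V) Γ(X, U₁))) ≫ hV.fromSpec =
      hU₁.fromSpec ≫ f := IsAffineOpen.SpecMap_appLE_fromSpec f hV hU₁ hUV
  have hloc := fibreDimAt_eq_of_isOpenImmersion_square hU₁.fromSpec hV.fromSpec
    (Spec.map (CommRingCat.ofHom (algebraMap Γ(Y, V) Γ(X, U₁)))) f hsq
  let x0 : Spec Γ(X, U₁) := hU₁.primeIdealOf ⟨x, hxU₁⟩
  have hx0 : hU₁.fromSpec x0 = x := hU₁.fromSpec_primeIdealOf ⟨x, hxU₁⟩
  have hx0' : FlatMor.fibreDimAt (Spec.map (CommRingCat.ofHom (algebraMap Γ(Y, V) Γ(X, U₁)))) x0 ≤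
      ((e : ℕ) : WithBot ℕ∞) := by
    rw [hloc x0, hx0]; exact hfd
  have hr0 : resTrdegNat (Spec.map (CommRingCat.ofHom (algebraMap Γ(Y, V) Γ(X, U₁)))) x0 = 0 := by
    have h1 := resTrdegNat_comp (Spec.map (CommRingCat.ofHom (algebraMap Γ(Y, V) Γ(X, U₁))))
      hV.fromSpec x0
    rw [resTrdegNat_congr hsq x0, resTrdegNat_comp_of_isOpenImmersion, hx0, hr] at h1
    omega
  obtain ⟨π, hπ, hπx⟩ :=
    exists_mvPolynomial_quasiFiniteAt_of_resTrdegNat_eq_zero e Γ(Y, V) Γ(X, U₁) x0 hx0' hr0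
  let E : MvPolynomial (ULift.{u} (Fin e)) Γ(Y, V) ≃ₐ[Γ(Y, V)] MvPolynomial (Fin e) Γ(Y, V) :=
    MvPolynomial.renameEquiv _ Equiv.ulift
  let ψ : MvPolynomial (ULift.{u} (Fin e)) Γ(Y, V) →+* Γ(X, U₁) :=
    π.toRingHom.comp E.toRingEquiv.toRingHom
  have hψQF : (Spec.map (CommRingCat.ofHom ψ)).QuasiFiniteAt x0 :=
    (quasiFiniteAt_SpecMap_comp_ringEquiv _ _ _).mpr hπ
  have hψC : ψ.comp MvPolynomial.C = (f.appLE V U₁ hUV).hom := by
    ext a
    change π (E (MvPolynomial.C a)) = algebraMap Γ(Y, V) Γ(X, U₁) a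
    have h1 : E (MvPolynomial.C a) = MvPolynomial.C a := by
      change MvPolynomial.rename _ (MvPolynomial.C a) = _
      rw [MvPolynomial.rename_C]
    rw [h1, ← MvPolynomial.algebraMap_eq, AlgHom.commutes]
  have hψX : ∀ i, ψ (MvPolynomial.X i) ∈ x0.asIdeal := by
    intro i
    change π (E (MvPolynomial.X i)) ∈ _
    have h1 : E (MvPolynomial.X i) = MvPolynomial.X i.down := by
      change MvPolynomial.rename _ (MvPolynomial.X i) = _
      rw [MvPolynomial.rename_X]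
      rfl
    rw [h1]
    exact hπx _
  let g₁ := AffineSpace.homOfVector (U₁.ι ≫ f) (chartVector hU₁ (ULift.{u} (Fin e)) ψ)
  have hg₁over : g₁ ≫ (𝔸(ULift.{u} (Fin e); Y) ↘ Y) = U₁.ι ≫ f :=
    AffineSpace.homOfVector_over _ _
  have hg₁QF : g₁.QuasiFiniteAt (hU₁.isoSpec.inv x0) :=
    (quasiFiniteAt_homOfVector_iff f hU₁ hV hUV _ ψ hψC x0).mpr hψQF
  have hg₁lft : LocallyOfFiniteType g₁ := by
    have : LocallyOfFiniteType (g₁ ≫ (𝔸(ULift.{u} (Fin e); Y) ↘ Y)) := by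
      rw [hg₁over]; infer_instance
    exact locallyOfFiniteType_of_comp g₁ (𝔸(ULift.{u} (Fin e); Y) ↘ Y)
  let W := g₁.quasiFiniteLocus
  let U : X.Opens := U₁.ι ''ᵁ W
  have hUU₁ : U ≤ U₁ := by
    rintro _ ⟨w, -, rfl⟩
    exact w.2
  have hxU : x ∈ U := by
    refine ⟨hU₁.isoSpec.inv x0, hg₁QF, ?_⟩
    rw [← hx0]
    rfl
  refine ⟨U, X.homOfLE hUU₁ ≫ g₁, hxU, hUU₁.trans hU₁U₀, ?_, ?_, ?_⟩
  · rw [Category.assoc, hg₁over, Scheme.homOfLE_ι_assoc]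
  · have hlft : LocallyOfFiniteType (X.homOfLE hUU₁ ≫ g₁) := inferInstance
    rw [← Scheme.Hom.quasiFiniteLocus_eq_top_iff, Scheme.Hom.quasiFiniteLocus_comp]
    rw [eq_top_iff]
    intro u _
    obtain ⟨w, hw, hwu⟩ : (U.ι u) ∈ U := u.2
    change X.homOfLE hUU₁ u ∈ W
    have h1 : U₁.ι (X.homOfLE hUU₁ u) = U.ι u := by
      rw [← Scheme.Hom.comp_apply, Scheme.homOfLE_ι]
    have h2 : X.homOfLE hUU₁ u = w := by
      apply U₁.ι.isOpenEmbedding.injective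
      rw [h1]; exact hwu.symm
    rw [h2]
    exact hw
  · intro i
    have h2 : X.homOfLE hUU₁ (⟨x, hxU⟩ : (U : Scheme.{u})) = hU₁.isoSpec.inv x0 := by
      apply U₁.ι.isOpenEmbedding.injective
      rw [← Scheme.Hom.comp_apply, Scheme.homOfLE_ι]
      change x = _
      rw [← hx0]
      rfl
    rw [Scheme.Hom.comp_appTop, CommRingCat.comp_apply, ← Scheme.preimage_basicOpen_top]
    change ¬ (X.homOfLE hUU₁ (⟨x, hxU⟩ : (U : Scheme.{u})) ∈
      (U₁ : Scheme.{u}).basicOpen (g₁.appTop (AffineSpace.coord Y i)))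
    rw [h2, AffineSpace.homOfVector_appTop_coord]
    unfold chartVector
    rw [← Scheme.preimage_basicOpen_top]
    change ¬ (hU₁.isoSpec.hom (hU₁.isoSpec.inv x0) ∈
      (Spec Γ(X, U₁)).basicOpen ((Scheme.ΓSpecIso Γ(X, U₁)).inv (ψ (MvPolynomial.X i))))
    rw [← Scheme.Hom.comp_apply, Iso.inv_hom_id]
    change ¬ (x0 ∈ (Spec Γ(X, U₁)).basicOpen ((Scheme.ΓSpecIso Γ(X, U₁)).inv (ψ (MvPolynomial.X i))))
    rw [basicOpen_eq_of_affine']
    intro h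
    apply h
    have h5 : (Scheme.ΓSpecIso Γ(X, U₁)).hom ((Scheme.ΓSpecIso Γ(X, U₁)).inv
        (ψ (MvPolynomial.X i))) = ψ (MvPolynomial.X i) := by
      rw [← CommRingCat.comp_apply, Iso.inv_hom_id]
      rfl
    change (Scheme.ΓSpecIso Γ(X, U₁)).hom ((Scheme.ΓSpecIso Γ(X, U₁)).inv
        (ψ (MvPolynomial.X i))) ∈ x0.asIdeal
    rw [h5]
    exact hψX i

end Groth.Agent.Lib.Helper73
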